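import Groth.Agent.L05.RatPow.R1
import Groth.Agent.L16.Exist.AlgComplete
import Groth.Agent.L12.VBLift.Small
import Groth.Agent.L17.AffinePush
import Groth.Agent.L18.IdealModule
import Groth.Agent.L21.RR.Coh

/-! The first direct image at a point and the cohomology of the closed subschemes over it. -/

set_option autoImplicit false
set_option linter.style.haveILetI false
set_option maxHeartbeats 1000000
set_option backward.isDefEq.respectTransparency false
set_option backward.isDefEq.respectTransparency.types false

universe u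

open CategoryTheory CategoryTheory.Limits AlgebraicGeometry TopologicalSpace Opposite

noncomputable section

namespace Groth.L05.RatCrit

/-- Along a closed immersion `H¹(O)` surjects when the second cohomology of the ideal vanishes. -/
theorem subsingleton_H1_of_closedImmersion {Z W : Scheme.{u}} (k : Z ⟶ W) [IsClosedImmersion k]
    (h1 : Subsingleton (Coh.HH W (Coh.structureModule W) 1))
    (h2 : Subsingleton (Coh.HH W (kernel (ClSub.unitToPush k)) 2)) :
    Subsingleton (Coh.HH Z (Coh.structureModule Z) 1) := by
  haveI := Groth.L12.VBLift.epi_unitToPush k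
  have hS : (ShortComplex.mk (kernel.ι (ClSub.unitToPush k)) (ClSub.unitToPush k) (kernel.condition _)).ShortExact :=
    { exact := ShortComplex.exact_of_f_is_kernel _ (kernelIsKernel _)
      mono_f := inferInstance
      epi_g := inferInstance }
  obtain ⟨e⟩ := Groth.L17.nonempty_HH_push_of_isClosedImmersion k (Coh.structureModule Z) 1
  haveI : Subsingleton (Coh.HH W ((Coh.push k).obj (Coh.structureModule Z)) 1) := by
    refine subsingleton_of_forall_eq 0 fun y => ?_
    obtain ⟨x, rfl⟩ := (Groth.L16.CohLinear.exact_hmap_delta hS 1 y).1 (h2.elim _ _)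
    rw [h1.elim x 0, map_zero]
  exact e.toEquiv.subsingleton

/-- A surjective flat preimmersion is an isomorphism. -/
theorem isIso_of_flat_preimmersion {A B : Scheme.{u}} (q : A ⟶ B) [Flat q] [IsPreimmersion q]
    (h : Function.Surjective q) : IsIso q := by
  haveI : IsHomeomorph q := isHomeomorph_iff_isEmbedding_surjective.2 ⟨q.isEmbedding, h⟩
  refine (isIso_iff_isIso_stalkMap q).2 ⟨?_, fun x => Groth.L11.REqHom.isIso_stalkMap_of_flat_preimmersion q x⟩
  exact (TopCat.isIso_iff_isHomeomorph q.base).2 this

variable {X Y : Scheme.{u}} [IsLocallyNoetherian X] (f : Y ⟶ X) [IsProper f] [HasInjectiveResolutions Y.Modules]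
  (P : X)

local notation "O" => X.presheaf.stalk P

/-- If the direct image vanishes at `P`, so does `H¹` of every closed subscheme over `P`. -/
theorem subsingleton_H1_of_stalk
    (hR : Subsingleton (((Coh.Rpush f 1).obj (Coh.structureModule Y)).presheaf.stalk P))
    (hd : ∀ y, topologicalKrullDim ↥(f.fiber y) ≤ (1 : ℕ)) {Z : Scheme.{u}} (i : Z ⟶ Y) [IsClosedImmersion i]
    (hi : ∀ z, f (i z) = P) : Subsingleton (Coh.HH Z (Coh.structureModule Z) 1) := by
  haveI : IsLocallyNoetherian Y := LocallyOfFiniteType.isLocallyNoetherian f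
  let T := pullback f (X.fromSpecStalk P)
  let g : T ⟶ Y := pullback.fst _ _
  letI : T.Over (Spec (CommRingCat.of O)) := ⟨pullback.snd f (X.fromSpecStalk P)⟩
  let f₁ : T ⟶ Spec (CommRingCat.of O) := T ↘ Spec (CommRingCat.of O)
  have hsq : IsPullback g f₁ f (X.fromSpecStalk P) := IsPullback.of_hasPullback _ _
  haveI : IsProper f₁ := MorphismProperty.of_isPullback hsq inferInstance
  haveI : IsPreimmersion g := MorphismProperty.of_isPullback hsq.flip inferInstance
  haveI : Flat g := MorphismProperty.of_isPullback hsq.flip (Groth.L05.Point.flat_fromSpecStalk P)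
  haveI : IsLocallyNoetherian T := LocallyOfFiniteType.isLocallyNoetherian f₁
  -- the subscheme lifts
  let q : pullback g i ⟶ Z := pullback.snd g i
  haveI : IsIso q := isIso_of_flat_preimmersion q fun z => by
    obtain ⟨t, ht, -⟩ := Scheme.exists_preimage_of_isPullback hsq (i z) (IsLocalRing.closedPoint O)
      ((hi z).trans X.fromSpecStalk_closedPoint.symm)
    obtain ⟨w, -, hw⟩ := Scheme.Pullback.exists_preimage_pullback t z ht
    exact ⟨w, hw⟩
  let k : Z ⟶ T := inv q ≫ pullback.fst g i
  -- its cohomology
  obtain ⟨E⟩ := Groth.L16.Rees.exists_stalk_equiv f (Coh.structureModule Y) Groth.L16.CohClosedPush.isCoh_structure P 1 g hsq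
  haveI : Subsingleton (Coh.HH T ((Scheme.Modules.pullback g).obj (Coh.structureModule Y)) 1) :=
    E.toEquiv.symm.subsingleton
  have h1 : Subsingleton (Coh.HH T (Coh.structureModule T) 1) :=
    (Groth.L17.BC.HHequiv (Groth.L29.LocFree.pullbackUnitIso g) 1).toEquiv.symm.subsingleton
  have hd₁ : ∀ y, topologicalKrullDim ↥(f₁.fiber y) ≤ (1 : ℕ) := fun y => by
    refine le_trans ?_ (hd (X.fromSpecStalk P y))
    have hmem : ∀ z, g (f₁.fiberι y z) ∈ Set.range (f.fiberι (X.fromSpecStalk P y)) := fun z => by
      rw [f.range_fiberι]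
      show f (g _) = _
      rw [← Scheme.Hom.comp_apply, hsq.w, Scheme.Hom.comp_apply,
        show f₁ (f₁.fiberι y z) = y from (f₁.range_fiberι y).le ⟨z, rfl⟩]
      rfl
    let e := (f.fiberι (X.fromSpecStalk P y)).isEmbedding.toHomeomorph
    refine Topology.IsInducing.topologicalKrullDim_le (f := fun z => e.symm ⟨_, hmem z⟩) ?_
    exact e.symm.isInducing.comp ((g.isEmbedding.comp (f₁.fiberι y).isEmbedding).isInducing.codRestrict hmem)
  haveI : IsLocallyNoetherian Z := LocallyOfFiniteType.isLocallyNoetherian i
  haveI : Coh.IsQCoh ((Coh.push k).obj (Coh.structureModule Z)) :=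
    (Groth.L16.CohClosedPush.isCoh_push k Groth.L16.CohClosedPush.isCoh_structure).1
  haveI : Coh.IsQCoh (Coh.structureModule T) := Groth.L16.CohClosedPush.isCoh_structure.1
  haveI : Coh.IsQCoh (kernel (ClSub.unitToPush k)) := Groth.L18.IdealModule.isQCoh_kernel _
  exact subsingleton_H1_of_closedImmersion k h1
    (Groth.L19.VanishFibre.subsingleton_HH_of_fibre_dim_le f₁ hd₁ _ one_lt_two)

/-- If `H¹` vanishes on all subschemes with the fibre as support, the direct image vanishes at `P`. -/
theorem subsingleton_stalk_of_H1 (hP : IsClosed ({P} : Set X))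
    (h : ∀ (Z : Scheme.{u}) (i : Z ⟶ Y), IsClosedImmersion i → Set.range i = f ⁻¹' {P} →
      Subsingleton (Coh.HH Z (Coh.structureModule Z) 1)) :
    Subsingleton (((Coh.Rpush f 1).obj (Coh.structureModule Y)).presheaf.stalk P) := by
  haveI : IsLocallyNoetherian Y := LocallyOfFiniteType.isLocallyNoetherian f
  let T := pullback f (X.fromSpecStalk P)
  let g : T ⟶ Y := pullback.fst _ _
  letI : T.Over (Spec (CommRingCat.of O)) := ⟨pullback.snd f (X.fromSpecStalk P)⟩
  let f₁ : T ⟶ Spec (CommRingCat.of O) := T ↘ Spec (CommRingCat.of O)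
  have hsq : IsPullback g f₁ f (X.fromSpecStalk P) := IsPullback.of_hasPullback _ _
  haveI : IsProper f₁ := MorphismProperty.of_isPullback hsq inferInstance
  haveI : IsPreimmersion g := MorphismProperty.of_isPullback hsq.flip inferInstance
  haveI : IsLocallyNoetherian T := LocallyOfFiniteType.isLocallyNoetherian f₁
  let I := IsLocalRing.maximalIdeal O
  obtain ⟨hfin, ⟨e⟩⟩ := Groth.L16.Rees.stalk_formal_functions f (Coh.structureModule Y) Groth.L16.CohClosedPush.isCoh_structure P 1 g hsq
  have hz : ∀ n, Subsingleton (Formal.HHmodPow I ((Scheme.Modules.pullback g).obj (Coh.structureModule Y)) 1 n) := by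
    intro n
    let S := CohB1.specQuot I n
    haveI : IsClosedImmersion S := IsClosedImmersion.spec_of_surjective _ Ideal.Quotient.mk_surjective
    let Tn := pullback f₁ S
    let i : Tn ⟶ T := pullback.fst f₁ S
    letI : Tn.Over (Spec (CommRingCat.of O)) := ⟨pullback.snd f₁ S ≫ S⟩
    obtain ⟨q, -⟩ := Groth.L16.Exist.Adic.exists_modPow_iso_unit (I := I) (k := n) (f := i) (π := pullback.snd f₁ S)
      (IsPullback.of_hasPullback f₁ S) rfl (M := (Scheme.Modules.pullback g).obj (Coh.structureModule Y))
      (Groth.L16.AffineBC.isCoh_pullback g Groth.L16.CohClosedPush.isCoh_structure)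
    have hSr : Set.range S = {IsLocalRing.closedPoint O} := by
      refine Eq.trans ?_ (PrimeSpectrum.zeroLocus_eq_singleton I)
      refine (range_comap_of_surjective _ _ Ideal.Quotient.mk_surjective).trans ?_
      simp only [Ideal.mk_ker]
      exact PrimeSpectrum.zeroLocus_pow I n.succ_ne_zero
    have hr : Set.range (i ≫ g) = f ⁻¹' {P} := by
      rw [show ⇑(i ≫ g) = g ∘ i from funext fun z => Scheme.Hom.comp_apply _ _ _, Set.range_comp,
        Scheme.Pullback.range_fst, hSr]
      ext y
      constructor
      · rintro ⟨t, ht, rfl⟩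
        show f (g t) = P
        rw [← Scheme.Hom.comp_apply, hsq.w, Scheme.Hom.comp_apply, show f₁ t = _ from ht]
        exact X.fromSpecStalk_closedPoint
      · intro hy
        obtain ⟨t, ht, ht'⟩ := Scheme.exists_preimage_of_isPullback hsq y (IsLocalRing.closedPoint O)
          (Eq.trans (show f y = P from hy) X.fromSpecStalk_closedPoint.symm)
        exact ⟨t, ht', ht⟩
    haveI : IsClosedImmersion (i ≫ g) := IsClosedImmersion.of_isPreimmersion _
      (by rw [hr]; exact hP.preimage f.continuous)
    haveI := h Tn (i ≫ g) ‹_› hr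
    haveI : Subsingleton (Coh.HH Tn ((Scheme.Modules.pullback i).obj ((Scheme.Modules.pullback g).obj (Coh.structureModule Y))) 1) :=
      (Groth.L17.BC.HHequiv ((Scheme.Modules.pullback i).mapIso (Groth.L29.LocFree.pullbackUnitIso g) ≪≫
        Groth.L29.LocFree.pullbackUnitIso i) 1).toEquiv.subsingleton
    obtain ⟨e'⟩ := Groth.L17.nonempty_HH_push_of_isClosedImmersion i
      ((Scheme.Modules.pullback i).obj ((Scheme.Modules.pullback g).obj (Coh.structureModule Y))) 1
    haveI := e'.toEquiv.symm.subsingleton
    exact (Groth.L17.BC.HHequiv q 1).toEquiv.subsingleton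
  haveI : Subsingleton (Formal.HHlim I ((Scheme.Modules.pullback g).obj (Coh.structureModule Y)) 1) :=
    ⟨fun a b => Subtype.ext (funext fun n => (hz n).elim _ _)⟩
  haveI := hfin
  exact Groth.L19.VanishFibre.subsingleton_of_adicCompletion e.toEquiv.subsingleton

end Groth.L05.RatCrit
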