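import Groth.Agent.L05.RatCrit.Basic
import Groth.Agent.L05.PtSeq.Invertible
import Groth.Agent.S11555
import Groth.Agent.S3852
import Groth.Agent.L13.RatSing.Birat

/-! The criterion for the vanishing of the first direct image of a resolution at a singular point. -/

set_option autoImplicit false
set_option linter.style.haveILetI false
set_option maxHeartbeats 1000000
set_option backward.isDefEq.respectTransparency false
set_option backward.isDefEq.respectTransparency.types false

universe u

open CategoryTheory CategoryTheory.Limits AlgebraicGeometry TopologicalSpace Opposite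

noncomputable section

namespace Groth.L05.RatCrit

theorem mem_support_prod {Y : Scheme.{u}} {ι : Type*} (S : Finset ι) (D : ι → Y.IdealSheafData) (z : Y) :
    z ∈ ((∏ i ∈ S, D i).support : Set Y) ↔ ∃ i ∈ S, z ∈ ((D i).support : Set Y) := by
  classical
  induction S using Finset.induction_on with
  | empty => simp [Scheme.IdealSheafData.one_eq_top]
  | insert i S hi ih =>
    rw [Finset.prod_insert hi, Scheme.IdealSheafData.support_mul]
    simp only [Finset.exists_mem_insert]
    rw [← ih]
    rfl

theorem eq_one_of_add_one_le {d : WithBot ℕ∞} (h1 : 1 ≤ d) (h2 : d + 1 ≤ 2) : d = 1 := by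
  induction d with
  | bot => exact absurd h1 (by simp)
  | coe d =>
    induction d with
    | top =>
      exfalso
      have h : ((⊤ : ℕ∞) + 1 : ℕ∞) ≤ 2 := WithBot.coe_le_coe.1 h2
      simp at h
    | coe n =>
      have ha : ((1 : ℕ) : ℕ∞) ≤ (n : ℕ∞) := WithBot.coe_le_coe.1 h1
      have hb : ((n + 1 : ℕ) : ℕ∞) ≤ ((2 : ℕ) : ℕ∞) := WithBot.coe_le_coe.1 h2
      obtain rfl : n = 1 := by
        have := ENat.coe_le_coe.1 ha
        have := ENat.coe_le_coe.1 hb
        omega
      rfl

variable {X Y : Scheme.{u}} [IsIntegral X] [IsLocallyNoetherian X] [CompactSpace X] [IsIntegral Y] (f : Y ⟶ X)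
  [IsProper f] {P : X} (hPc : IsClosed ({P} : Set X))

include hPc in
theorem compl_nonempty (hP : ¬ IsRegularLocalRing (X.presheaf.stalk P)) :
    ((⟨({P} : Set X)ᶜ, hPc.isOpen_compl⟩ : X.Opens) : Set X).Nonempty := by
  refine ⟨genericPoint X, fun h => hP ?_⟩
  rw [Set.mem_singleton_iff] at h
  rw [← h]
  exact inferInstanceAs (IsRegularLocalRing X.functionField)

/-- On a regular surface the fibre over a singular point of a normal target is the support of a divisor. -/
theorem exists_cartier_fibre (hnorm : Pi1.IsNormalScheme X) (hP : ¬ IsRegularLocalRing (X.presheaf.stalk P))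
    (hregY : ∀ y : Y, IsRegularLocalRing (Y.presheaf.stalk y))
    (hdimY : ∀ y : Y, ringKrullDim (Y.presheaf.stalk y) ≤ 2)
    (hiso : IsIso (f ∣_ ⟨({P} : Set X)ᶜ, hPc.isOpen_compl⟩)) :
    ∃ D : Y.IdealSheafData, BlowUp.IsEffCartierIdeal D ∧ (D.support : Set Y) = f ⁻¹' {P} := by
  classical
  haveI : IsLocallyNoetherian Y := LocallyOfFiniteType.isLocallyNoetherian f
  haveI : CompactSpace Y := QuasiCompact.compactSpace_of_compactSpace f
  haveI : AlgebraicGeometry.IsNoetherian Y := {}
  haveI := hiso
  obtain ⟨hξ, hbij⟩ := Groth.L13.RatSing.birational_of_isIso_restrict f _ (compl_nonempty hPc hP)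
  obtain ⟨V, hVi, hV, -⟩ := Groth.Agent.S11555.result f hnorm hξ hbij
  haveI := hVi
  have hPV : P ∉ (V : Set X) := fun h => hP (by
    obtain ⟨z, hz⟩ := (f ∣_ V).homeomorph.surjective ⟨P, h⟩
    have hz' : f z.1 = P := by
      rw [← morphismRestrict_base_coe]
      exact congrArg Subtype.val hz
    haveI : IsIso (f.stalkMap z.1) :=
      ((MorphismProperty.isomorphisms CommRingCat.{u}).arrow_mk_iso_iff (morphismRestrictStalkMap f V z)).1
        (inferInstanceAs (IsIso ((f ∣_ V).stalkMap z)))
    haveI := hregY z.1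
    rw [← hz']
    exact IsRegularLocalRing.of_ringEquiv (asIso (f.stalkMap z.1)).commRingCatIsoToRingEquiv.symm)
  have hgen : f (genericPoint Y) ≠ P := fun h => hP (by
    rw [← h, hξ]
    exact inferInstanceAs (IsRegularLocalRing X.functionField))
  let F := ↥(f ⁻¹' {P})
  have hSc : IsClosed (f ⁻¹' {P}) := hPc.preimage f.continuous
  haveI : NoetherianSpace F := Topology.IsInducing.subtypeVal.noetherianSpace
  have hfin : (irreducibleComponents F).Finite := NoetherianSpace.finite_irreducibleComponents
  let e : ↥(f.fiber P) ≃ₜ F := (f.fiberι P).isEmbedding.toHomeomorph.trans (Homeomorph.setCongr (f.range_fiberι P))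
  have key : ∀ C ∈ irreducibleComponents F, ∃ ξ : Y, ringKrullDim (Y.presheaf.stalk ξ) = 1 ∧
      IsGenericPoint ξ (Subtype.val '' C) := by
    intro C hC
    have hCc : IsClosed C := isClosed_of_mem_irreducibleComponents C hC
    obtain ⟨ξ, hξC⟩ := QuasiSober.sober (hC.1.image Subtype.val continuous_subtype_val.continuousOn)
      (hSc.isClosedMap_subtype_val C hCc)
    refine ⟨ξ, ?_, hξC⟩
    obtain ⟨c, hc, hcξ⟩ := hξC.mem
    by_cases hcl : ∃ y, ξ ⤳ y ∧ ξ ≠ y
    · obtain ⟨y, hy, hne⟩ := hcl
      refine eq_one_of_add_one_le ?_ ((Groth.L22.CartierDecomp.succ_dim_le hy hne).trans (hdimY y))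
      have h2 := Groth.L22.CartierDecomp.succ_dim_le ((genericPoint_spec Y).specializes (Set.mem_univ ξ))
        fun h' => hgen (by rw [h', ← hcξ]; exact c.2)
      have h3 : ringKrullDim (Y.presheaf.stalk (genericPoint Y)) = 0 :=
        ringKrullDim_eq_zero_of_isField (Field.toIsField Y.functionField)
      rwa [h3, zero_add] at h2
    · push Not at hcl
      exfalso
      have hCs : C = {c} := by
        refine Set.Subset.antisymm (fun z hz => ?_) (Set.singleton_subset_iff.2 hc)
        exact Subtype.ext ((hcl _ (hξC.specializes ⟨z, hz, rfl⟩)).symm.trans hcξ.symm)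
      refine hV P hPV (e.symm c) ?_
      rw [show ({e.symm c} : Set _) = e ⁻¹' {c} from Set.ext fun z =>
        ⟨fun hz => by rw [Set.mem_singleton_iff.1 hz]; exact e.apply_symm_apply c,
          fun hz => (e.symm_apply_apply z).symm.trans (congrArg e.symm hz)⟩]
      refine IsOpen.preimage e.continuous ?_
      have h1 : ({c} : Set F) = (⋃₀ (irreducibleComponents F \ {C}))ᶜ := by
        refine Set.Subset.antisymm (Set.singleton_subset_iff.2 ?_) fun z hz => ?_
        · rintro ⟨D, hD, hcD⟩
          exact hD.2 (Set.Subset.antisymm (hC.2 hD.1.1 (hCs ▸ Set.singleton_subset_iff.2 hcD)) (hCs ▸ Set.singleton_subset_iff.2 hcD))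
        · obtain ⟨D, hD, hzD⟩ := Set.mem_sUnion.1 ((sUnion_irreducibleComponents (X := F)).ge (Set.mem_univ z))
          rcases eq_or_ne D C with rfl | hne
          · exact hCs.le hzD
          · exact (hz (Set.mem_sUnion.2 ⟨D, ⟨hD, hne⟩, hzD⟩ : z ∈ ⋃₀ (irreducibleComponents F \ {C}))).elim
      rw [h1, isOpen_compl_iff, Set.sUnion_eq_biUnion]
      exact hfin.sdiff.isClosed_biUnion fun D hD => isClosed_of_mem_irreducibleComponents D hD.1
  choose ξ hξd hξg using key
  choose D hD _ hgenD using fun C : ↥(irreducibleComponents F) => Groth.L05.PtSeq.isEffCartier_vanishing hregY (hξd C C.2)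
  haveI := hfin.fintype
  refine ⟨∏ C, D C, Groth.L05.InterPair.isEffCartier_prod _ fun C _ => hD C, Set.ext fun y => ?_⟩
  rw [mem_support_prod]
  constructor
  · rintro ⟨C, -, hy⟩
    rw [← (hgenD C).def, (hξg C C.2).def] at hy
    obtain ⟨z, -, rfl⟩ := hy
    exact z.2
  · intro hy
    obtain ⟨C, hC, hyC⟩ := Set.mem_sUnion.1 ((sUnion_irreducibleComponents (X := F)).ge (Set.mem_univ ⟨y, hy⟩))
    refine ⟨⟨C, hC⟩, Finset.mem_univ _, ?_⟩
    rw [← (hgenD ⟨C, hC⟩).def, (hξg C hC).def]
    exact ⟨⟨y, hy⟩, hyC, rfl⟩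

/-- The criterion. -/
theorem isZero_iff (hnorm : Pi1.IsNormalScheme X) (hP : ¬ IsRegularLocalRing (X.presheaf.stalk P))
    (hregY : ∀ y : Y, IsRegularLocalRing (Y.presheaf.stalk y))
    (hdimY : ∀ y : Y, ringKrullDim (Y.presheaf.stalk y) ≤ 2)
    (hiso : IsIso (f ∣_ ⟨({P} : Set X)ᶜ, hPc.isOpen_compl⟩)) :
    IsZero ((Coh.RpushAb f 1).obj (Coh.toAb (Coh.structureModule Y))) ↔
      ∀ W : Y.IdealSheafData, PicF.IsInvertible (ClSub.idealMod W) → (W.support : Set Y).Nonempty →
        (W.support : Set Y) ⊆ f.base ⁻¹' {P} → Subsingleton (Coh.HH Y (ClSub.quotMod W) 1) := by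
  haveI : IsLocallyNoetherian Y := LocallyOfFiniteType.isLocallyNoetherian f
  haveI : CompactSpace Y := QuasiCompact.compactSpace_of_compactSpace f
  haveI : AlgebraicGeometry.IsNoetherian Y := {}
  haveI := Groth.L17.PushQCoh.hasInjectiveResolutions Y
  haveI := hiso
  let U : X.Opens := ⟨({P} : Set X)ᶜ, hPc.isOpen_compl⟩
  obtain ⟨u, hu⟩ := compl_nonempty hPc hP
  obtain ⟨z, hz⟩ := (f ∣_ U).homeomorph.surjective ⟨u, hu⟩
  have hd : ∀ y, topologicalKrullDim ↥(f.fiber y) ≤ (1 : ℕ) := fun y =>
    Groth.L13.ModFibre.topologicalKrullDim_fiber_le_one f U ⟨z.1, z.2⟩ hdimY y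
  obtain ⟨ψ⟩ := Groth.L17.nonempty_toAb_Rpush_iso f (Coh.structureModule Y) 1
  constructor
  · intro h W _ _ hW
    obtain ⟨e⟩ := Groth.L17.nonempty_HH_push_of_isClosedImmersion W.subschemeι (Coh.structureModule W.subscheme) 1
    refine @Equiv.subsingleton _ _ e.symm.toEquiv ?_
    refine subsingleton_H1_of_stalk f P ?_ hd W.subschemeι fun w => hW (W.range_subschemeι.le ⟨w, rfl⟩)
    have hz : IsZero ((Coh.Rpush f 1).obj (Coh.structureModule Y)) := by
      rw [IsZero.iff_id_eq_zero]
      apply (SheafOfModules.toSheaf X.ringCatSheaf).map_injective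
      exact (h.of_iso ψ).eq_of_src _ _
    exact AddCommGrpCat.subsingleton_of_isZero
      ((Groth.L21.Mod.isZero_iff_stalk _).1 hz P)
  · intro h
    refine IsZero.of_iso ?_ ψ.symm
    refine (SheafOfModules.toSheaf X.ringCatSheaf).map_isZero ?_
    rw [Groth.L21.Mod.isZero_iff_support_eq_empty, Set.eq_empty_iff_forall_notMem]
    intro x hx
    refine hx ?_
    by_cases hxP : x = P
    · subst hxP
      obtain ⟨D, hD, hDs⟩ := exists_cartier_fibre f hPc hnorm hP hregY hdimY hiso
      refine subsingleton_stalk_of_H1 f x hPc fun Z i hi hr => ?_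
      haveI := hi
      obtain ⟨N, hN⟩ := Groth.Agent.S3852.result Y D i.ker (by
        rw [Scheme.Hom.support_ker, hDs, i.isClosedEmbedding.isClosed_range.closure_eq, hr])
      let W := D ^ (N + 1)
      have hWs : (W.support : Set Y) = f ⁻¹' {x} := by
        rw [Scheme.IdealSheafData.support_pow_succ, hDs]
      have hne : (W.support : Set Y).Nonempty := by
        rw [hWs]
        obtain ⟨hξ, -⟩ := Groth.L13.RatSing.birational_of_isIso_restrict f U ⟨u, hu⟩
        exact ((f.isClosedMap.isClosed_range.closure_subset_iff).2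
          (Set.singleton_subset_iff.2 ⟨genericPoint Y, hξ⟩)) ((genericPoint_spec X).def.ge (Set.mem_univ x))
      haveI := h W ((Groth.Agent.L19.IdealInvertible.isEffCartier_iff _).2
        (Groth.L05.InterPair.isEffCartier_pow hD (N + 1))) hne hWs.le
      obtain ⟨e⟩ := Groth.L17.nonempty_HH_push_of_isClosedImmersion W.subschemeι (Coh.structureModule W.subscheme) 1
      have h1 : Subsingleton (Coh.HH W.subscheme (Coh.structureModule W.subscheme) 1) := e.toEquiv.subsingleton
      let k : Z ⟶ W.subscheme := IsClosedImmersion.lift W.subschemeι i (by rwa [Scheme.IdealSheafData.ker_subschemeι])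
      haveI : IsClosedImmersion (k ≫ W.subschemeι) := by rw [IsClosedImmersion.lift_fac]; infer_instance
      haveI : IsClosedImmersion k := IsClosedImmersion.of_comp k W.subschemeι
      haveI : IsLocallyNoetherian W.subscheme := LocallyOfFiniteType.isLocallyNoetherian W.subschemeι
      haveI : CompactSpace W.subscheme := QuasiCompact.compactSpace_of_compactSpace W.subschemeι
      haveI : AlgebraicGeometry.IsNoetherian W.subscheme := {}
      have hdW : topologicalKrullDim W.subscheme ≤ 1 := by
        refine le_trans ?_ (hd x)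
        have hmem : ∀ w, W.subschemeι w ∈ Set.range (f.fiberι x) := fun w => by
          rw [f.range_fiberι, ← hWs]
          exact W.range_subschemeι.le ⟨w, rfl⟩
        let e := (f.fiberι x).isEmbedding.toHomeomorph
        refine Topology.IsInducing.topologicalKrullDim_le (f := fun w => e.symm ⟨_, hmem w⟩) ?_
        exact e.symm.isInducing.comp (W.subschemeι.isEmbedding.isInducing.codRestrict hmem)
      exact subsingleton_H1_of_closedImmersion k h1 (Groth.L21.RR.subsingleton_HH_two hdW _ 0)
    · refine Groth.L19.VanishFibre.subsingleton_stalk_Rpush f x (d := 0) ?_ _ Groth.L16.CohClosedPush.isCoh_structure one_pos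
      have hsub : Subsingleton ↥(f.fiber x) := ⟨fun a b => (f.fiberι x).isEmbedding.injective (by
        have ha : f (f.fiberι x a) = x := (f.range_fiberι x).le ⟨a, rfl⟩
        have hb : f (f.fiberι x b) = x := (f.range_fiberι x).le ⟨b, rfl⟩
        exact congrArg Subtype.val ((f ∣_ U).homeomorph.injective
          (a₁ := ⟨f.fiberι x a, show f _ ∈ U by rw [ha]; exact hxP⟩)
          (a₂ := ⟨f.fiberι x b, show f _ ∈ U by rw [hb]; exact hxP⟩)
          (Subtype.ext (Eq.trans (morphismRestrict_base_coe f U _) (Eq.trans (ha.trans hb.symm)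
            (morphismRestrict_base_coe f U ⟨f.fiberι x b, show f _ ∈ U by rw [hb]; exact hxP⟩).symm)))))⟩
      exact topologicalKrullDim_zero_of_discreteTopology _

end Groth.L05.RatCrit
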